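import Groth.Agent.Lib.Helper39.BasicElt.Proj

namespace Groth.Agent.Lib.Helper39.BasicElt

universe u

set_option linter.unusedSectionVars false

variable {R : Type u} [CommRing R]

/-- A linear equivalence of `A × R` with `B × R` fixing `(0, 1)` induces one of `A` with `B`. -/
theorem nonempty_equiv_of_fix {A B : Type*} [AddCommGroup A] [Module R A] [AddCommGroup B]
    [Module R B] (S : (A × R) ≃ₗ[R] (B × R)) (h : S (0, 1) = (0, 1)) : Nonempty (A ≃ₗ[R] B) := by
  have h' : S.symm (0, 1) = (0, 1) := by rw [← h, S.symm_apply_apply]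
  refine ⟨LinearEquiv.ofLinear (LinearMap.fst R B R ∘ₗ S.toLinearMap ∘ₗ LinearMap.inl R A R)
    (LinearMap.fst R A R ∘ₗ S.symm.toLinearMap ∘ₗ LinearMap.inl R B R) ?_ ?_⟩
  · refine LinearMap.ext fun y => ?_
    simp only [LinearMap.comp_apply, LinearMap.inl_apply, LinearMap.fst_apply, LinearEquiv.coe_coe,
      LinearMap.id_apply]
    have hdec : ((S.symm (y, 0)).1, (0 : R)) = S.symm (y, 0) - (S.symm (y, 0)).2 • ((0 : A), (1 : R)) := by
      ext <;> simp
    rw [hdec, map_sub, map_smul, h, S.apply_symm_apply]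
    simp
  · refine LinearMap.ext fun x => ?_
    simp only [LinearMap.comp_apply, LinearMap.inl_apply, LinearMap.fst_apply, LinearEquiv.coe_coe,
      LinearMap.id_apply]
    have hdec : ((S (x, 0)).1, (0 : R)) = S (x, 0) - (S (x, 0)).2 • ((0 : B), (1 : R)) := by
      ext <;> simp
    rw [hdec, map_sub, map_smul, h', S.symm_apply_apply]
    simp

variable {P : Type u} [AddCommGroup P] [Module R P]

/-- The transvection `(p, r) ↦ (p + r • t, r)`. -/
def tv1 (t : P) : (P × R) ≃ₗ[R] (P × R) :=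
  LinearEquiv.ofLinear
    ((LinearMap.fst R P R + (LinearMap.snd R P R).smulRight t).prod (LinearMap.snd R P R))
    ((LinearMap.fst R P R - (LinearMap.snd R P R).smulRight t).prod (LinearMap.snd R P R))
    (LinearMap.ext fun x => by ext <;> simp)
    (LinearMap.ext fun x => by ext <;> simp)

theorem tv1_apply (t : P) (p : P) (r : R) : tv1 t (p, r) = (p + r • t, r) := rfl

/-- The transvection `(p, r) ↦ (p, r + c * φ p)`. -/
def tv2 (c : R) (φ : P →ₗ[R] R) : (P × R) ≃ₗ[R] (P × R) :=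
  LinearEquiv.ofLinear
    ((LinearMap.fst R P R).prod (LinearMap.snd R P R + c • (φ ∘ₗ LinearMap.fst R P R)))
    ((LinearMap.fst R P R).prod (LinearMap.snd R P R - c • (φ ∘ₗ LinearMap.fst R P R)))
    (LinearMap.ext fun x => by ext <;> simp)
    (LinearMap.ext fun x => by ext <;> simp)

theorem tv2_apply (c : R) (φ : P →ₗ[R] R) (p : P) (r : R) :
    tv2 c φ (p, r) = (p, r + c * φ p) := rfl

theorem cancel_one [IsNoetherianRing R] [Module.Finite R P] [Module.Projective R P] (n : ℕ)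
    (hrk : ∀ p : PrimeSpectrum R, n ≤ Module.rankAtStalk P p)
    (hdim : ∀ p : PrimeSpectrum R, Order.coheight p + 1 ≤ (n : ℕ∞))
    {P' : Type u} [AddCommGroup P'] [Module R P'] (σ : (P' × R) ≃ₗ[R] (P × R)) :
    Nonempty (P' ≃ₗ[R] P) := by
  obtain ⟨s, a, hsa⟩ : ∃ s a, σ (0, 1) = (s, a) := ⟨_, _, rfl⟩
  have hΛ : (σ.symm (s, a)).2 = 1 := by rw [← hsa, σ.symm_apply_apply]
  have hu : (σ.symm (0, 1)).2 * a +
      ((LinearMap.snd R P' R ∘ₗ σ.symm.toLinearMap ∘ₗ LinearMap.inl R P R) s) = 1 := by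
    have hdec : ((s, a) : P × R) = a • ((0 : P), (1 : R)) + (s, 0) := by ext <;> simp
    have h2 : (σ.symm (s, a)).2 = (σ.symm (0, 1)).2 * a +
        ((LinearMap.snd R P' R ∘ₗ σ.symm.toLinearMap ∘ₗ LinearMap.inl R P R) s) := by
      conv_lhs => rw [hdec, map_add, map_smul]
      simp [mul_comm]
    rw [← h2]
    exact hΛ
  obtain ⟨t, φ, hφ⟩ := exists_unimodular_add n hrk hdim s a _ _ hu
  refine nonempty_equiv_of_fix
    (σ.trans ((tv1 t).trans ((tv2 (1 - a) φ).trans (tv1 (-(s + a • t)))))) ?_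
  simp only [LinearEquiv.trans_apply, hsa, tv1_apply, tv2_apply, hφ]
  ext <;> simp

end Groth.Agent.Lib.Helper39.BasicElt
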