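import Groth.Agent.Lib.Helper39.BasicElt.Split

/-! Bass cancellation, iterated: `P' × R^m ≃ P × R^m` with `rank P > dim` gives `P' ≃ P`. -/

universe u

namespace Groth.Agent.Lib.Helper39.BasicElt

variable {R : Type u} [CommRing R] {P : Type u} [AddCommGroup P] [Module R P]

/-- `(Fin (m+1) → R)`-stabilisation rewritten as a one-step stabilisation. -/
noncomputable def stabSucc (R : Type u) [CommRing R] (Q : Type u) [AddCommGroup Q] [Module R Q]
    (m : ℕ) : (Q × (Fin (m + 1) → R)) ≃ₗ[R] ((Q × (Fin m → R)) × R) :=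
  (LinearEquiv.prodCongr (LinearEquiv.refl R Q)
    ((Fin.consLinearEquiv R (fun _ : Fin (m + 1) => R)).symm ≪≫ₗ
      LinearEquiv.prodComm R R (Fin m → R))) ≪≫ₗ
  (LinearEquiv.prodAssoc R Q (Fin m → R) R).symm

theorem cancel_many [IsNoetherianRing R] [Module.Finite R P] [Module.Projective R P] (n : ℕ)
    (hrk : ∀ p : PrimeSpectrum R, n ≤ Module.rankAtStalk P p)
    (hdim : ∀ p : PrimeSpectrum R, Order.coheight p + 1 ≤ (n : ℕ∞))
    {P' : Type u} [AddCommGroup P'] [Module R P'] (m : ℕ)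
    (σ : (P' × (Fin m → R)) ≃ₗ[R] (P × (Fin m → R))) :
    Nonempty (P' ≃ₗ[R] P) := by
  induction m with
  | zero =>
    have e1 : ∀ (Q : Type u) [AddCommGroup Q] [Module R Q], (Q × (Fin 0 → R)) ≃ₗ[R] Q :=
      fun Q _ _ => LinearEquiv.prodUnique
    exact ⟨(e1 P').symm ≪≫ₗ σ ≪≫ₗ e1 P⟩
  | succ m ih =>
    have σ' : ((P' × (Fin m → R)) × R) ≃ₗ[R] ((P × (Fin m → R)) × R) :=
      (stabSucc R P' m).symm ≪≫ₗ σ ≪≫ₗ stabSucc R P m
    have hrk' : ∀ p : PrimeSpectrum R, n ≤ Module.rankAtStalk (P × (Fin m → R)) p := by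
      intro p
      rw [Module.rankAtStalk_prod]
      exact le_trans (hrk p) (Nat.le_add_right _ _)
    obtain ⟨τ⟩ := cancel_one (P := P × (Fin m → R)) n hrk' hdim σ'
    exact ih τ

theorem cancel_many_of_dim [IsNoetherianRing R] [Module.Finite R P] [Module.Projective R P]
    (d n : ℕ) (hdim : ringKrullDim R = d) (hnd : d < n)
    (hrk : ∀ p : PrimeSpectrum R, n ≤ Module.rankAtStalk P p)
    {P' : Type u} [AddCommGroup P'] [Module R P'] (m : ℕ)
    (σ : (P' × (Fin m → R)) ≃ₗ[R] (P × (Fin m → R))) :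
    Nonempty (P' ≃ₗ[R] P) := by
  refine cancel_many n hrk (fun p => ?_) m σ
  have h1 := coheight_le_of_ringKrullDim hdim p
  have h2 : ((d : ℕ∞) + 1) ≤ (n : ℕ∞) := by exact_mod_cast hnd
  exact le_trans (by gcongr) h2

end Groth.Agent.Lib.Helper39.BasicElt
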