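import Groth.Agent.Lib.Helper39.BasicElt.Open

namespace Groth.Agent.Lib.Helper39.BasicElt

universe u

set_option linter.unusedSectionVars false

variable {R : Type u} [CommRing R] {ν : Type} [Fintype ν]

theorem red_modif_add (p : PrimeSpectrum R) {v : ℕ} (y : Fin (v + 1) → (ν → R))
    (a b : Fin v → R) (j : Fin v) :
    red p ν (modif y (fun j => a j + b j) j) =
      red p ν (modif y a j) + algebraMap R (κ p) (b j) • red p ν (y (Fin.last v)) := by
  simp only [modif, map_add, add_smul, red_smul]
  abel

theorem span_modif_le (p : PrimeSpectrum R) {v : ℕ} (y : Fin (v + 1) → (ν → R)) (a : Fin v → R) :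
    Submodule.span (κ p) (Set.range fun j => red p ν (modif y a j)) ≤
      Submodule.span (κ p) (Set.range fun j => red p ν (y j)) := by
  refine Submodule.span_le.2 ?_
  rintro _ ⟨j, rfl⟩
  simp only [modif, map_add, red_smul]
  exact add_mem (Submodule.subset_span ⟨_, rfl⟩)
    (Submodule.smul_mem _ _ (Submodule.subset_span ⟨_, rfl⟩))

theorem dep_modif (p : PrimeSpectrum R) {v : ℕ} (y : Fin (v + 1) → (ν → R)) (a : Fin v → R)
    (h : rk p y < v + 1) :
    (¬ LinearIndependent (κ p) (fun j => red p ν (modif y a j))) ∨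
      red p ν (y (Fin.last v)) ∈
        Submodule.span (κ p) (Set.range fun j => red p ν (modif y a j)) := by
  by_contra hcon
  push Not at hcon
  obtain ⟨hli, hZ⟩ := hcon
  have hsnoc : LinearIndependent (κ p)
      (Fin.snoc (fun j => red p ν (modif y a j)) (red p ν (y (Fin.last v))) :
        Fin (v + 1) → (ν → κ p)) :=
    linearIndependent_fin_snoc.2 ⟨hli, hZ⟩
  have hcard := linearIndependent_iff_card_eq_finrank_span.1 hsnoc
  rw [Fintype.card_fin, Set.finrank] at hcard
  have hle : Submodule.span (κ p) (Set.range (Fin.snoc (fun j => red p ν (modif y a j))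
      (red p ν (y (Fin.last v))) : Fin (v + 1) → (ν → κ p))) ≤
      Submodule.span (κ p) (Set.range fun j => red p ν (y j)) := by
    refine Submodule.span_le.2 ?_
    rintro _ ⟨j, rfl⟩
    refine Fin.lastCases ?_ (fun j => ?_) j
    · rw [Fin.snoc_last]
      exact Submodule.subset_span ⟨_, rfl⟩
    · rw [Fin.snoc_castSucc]
      exact span_modif_le p y a (Submodule.subset_span ⟨j, rfl⟩)
  have := Submodule.finrank_mono hle
  unfold rk at h
  omega

theorem multi_prime {v : ℕ} (y : Fin (v + 1) → (ν → R)) :
    ∀ (B : Finset (PrimeSpectrum R)), (∀ p ∈ B, rk p y < v + 1) →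
    ∃ a : Fin v → R, ∀ p ∈ B, red p ν (y (Fin.last v)) ∈
      Submodule.span (κ p) (Set.range fun j => red p ν (modif y a j)) := by
  classical
  intro B
  induction B using Finset.strongInduction with
  | H B ih =>
    intro hB
    rcases B.eq_empty_or_nonempty with rfl | hne
    · exact ⟨0, fun p hp => absurd hp (Finset.notMem_empty p)⟩
    obtain ⟨p₀, hp₀, hmin⟩ := B.exists_minimal hne
    obtain ⟨a', ha'⟩ := ih (B.erase p₀) (Finset.erase_ssubset hp₀)
      (fun p hp => hB p (Finset.mem_of_mem_erase hp))
    obtain ⟨r, hr, hr₀⟩ : ∃ r : R, (∀ p ∈ B.erase p₀, r ∈ p.asIdeal) ∧ r ∉ p₀.asIdeal := by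
      by_contra hcon
      push Not at hcon
      have hle : (B.erase p₀).inf (fun p => p.asIdeal) ≤ p₀.asIdeal := by
        intro x hx
        rw [Submodule.mem_finsetInf] at hx
        exact hcon x hx
      obtain ⟨q, hq, hqle⟩ := (Ideal.IsPrime.inf_le' p₀.isPrime).1 hle
      have hqne : q ≠ p₀ := Finset.ne_of_mem_erase hq
      have hqB : q ∈ B := Finset.mem_of_mem_erase hq
      exact hqne (le_antisymm hqle (hmin hqB hqle))
    have hρ : algebraMap R (κ p₀) r ≠ 0 := by
      rwa [Ne, Ideal.algebraMap_residueField_eq_zero]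
    obtain ⟨c, hc⟩ := exists_zero_one (fun j => red p₀ ν (modif y a' j))
      (red p₀ ν (y (Fin.last v))) (algebraMap R (κ p₀) r) hρ (dep_modif p₀ y a' (hB p₀ hp₀))
    refine ⟨fun j => a' j + r * (if c j then 1 else 0), fun p hp => ?_⟩
    by_cases hpp : p = p₀
    · subst hpp
      have : (fun j => red p ν (modif y (fun j => a' j + r * (if c j then 1 else 0)) j)) =
          fun j => red p ν (modif y a' j) +
            (if c j then algebraMap R (κ p) r else 0) • red p ν (y (Fin.last v)) := by
        funext j
        rw [red_modif_add]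
        congr 2
        split_ifs <;> simp
      rw [this]
      exact hc
    · have hpe : p ∈ B.erase p₀ := Finset.mem_erase.2 ⟨hpp, hp⟩
      have hr0 : algebraMap R (κ p) r = 0 := Ideal.algebraMap_residueField_eq_zero.2 (hr p hpe)
      have : (fun j => red p ν (modif y (fun j => a' j + r * (if c j then 1 else 0)) j)) =
          fun j => red p ν (modif y a' j) := by
        funext j
        rw [red_modif_add, map_mul, hr0, zero_mul, zero_smul, add_zero]
      rw [this]
      exact ha' p hpe

end Groth.Agent.Lib.Helper39.BasicElt
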