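import Groth.Agent.Lib.Helper39.BasicElt.Rk

namespace Groth.Agent.Lib.Helper39.BasicElt

universe u

set_option linter.unusedSectionVars false

variable {R : Type u} [CommRing R] {ν : Type} [Fintype ν]

theorem le_rk_of_det (p : PrimeSpectrum R) {J : Type} (y : J → (ν → R)) (w : ℕ)
    (c : Fin w → J) (r : Fin w → ν)
    (hdet : (Matrix.of fun a b => y (c b) (r a)).det ∉ p.asIdeal) : w ≤ rk p y := by
  classical
  have hne : algebraMap R (κ p) (Matrix.of fun a b => y (c b) (r a)).det ≠ 0 := by
    rwa [Ne, Ideal.algebraMap_residueField_eq_zero]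
  rw [RingHom.map_det] at hne
  have hunit : IsUnit ((algebraMap R (κ p)).mapMatrix (Matrix.of fun a b => y (c b) (r a))) := by
    rw [Matrix.isUnit_iff_isUnit_det]
    exact isUnit_iff_ne_zero.2 hne
  have hli := Matrix.linearIndependent_cols_iff_isUnit.2 hunit
  have hli2 : LinearIndependent (κ p) (fun b => red p ν (y (c b))) := by
    refine LinearIndependent.of_comp (LinearMap.funLeft (κ p) (κ p) r) ?_
    convert hli using 1
    ext b a'
    rfl
  have hcard := linearIndependent_iff_card_eq_finrank_span.1 hli2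
  rw [Fintype.card_fin, Set.finrank] at hcard
  rw [hcard]
  refine Submodule.finrank_mono (Submodule.span_le.2 ?_)
  rintro _ ⟨b, rfl⟩
  exact Submodule.subset_span ⟨c b, rfl⟩

theorem exists_det_of_le_rk (p : PrimeSpectrum R) {J : Type} (y : J → (ν → R)) (w : ℕ)
    (h : w ≤ rk p y) :
    ∃ (c : Fin w → J) (r : Fin w → ν),
      (Matrix.of fun a b => y (c b) (r a)).det ∉ p.asIdeal := by
  classical
  obtain ⟨κ', a, ha, hspan, hli⟩ := exists_linearIndependent' (κ p) (fun j => red p ν (y j))
  have : Finite κ' := hli.finite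
  haveI : Fintype κ' := Fintype.ofFinite κ'
  have hcard : Fintype.card κ' = rk p y := by
    rw [linearIndependent_iff_card_eq_finrank_span.1 hli, Set.finrank, hspan, rk]
  obtain ⟨emb⟩ : Nonempty (Fin w ↪ κ') :=
    Function.Embedding.nonempty_of_card_le (by rw [Fintype.card_fin, hcard]; exact h)
  have hli2 : LinearIndependent (κ p) (fun b : Fin w => red p ν (y (a (emb b)))) :=
    hli.comp emb emb.injective
  have hrank : (Matrix.of fun (b : Fin w) (i : ν) => red p ν (y (a (emb b))) i).rank = w := by
    have := LinearIndependent.rank_matrix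
      (M := Matrix.of fun (b : Fin w) (i : ν) => red p ν (y (a (emb b))) i) hli2
    rwa [Fintype.card_fin] at this
  rw [Matrix.rank_eq_finrank_span_cols] at hrank
  obtain ⟨κ'', a'', ha'', hspan'', hli''⟩ := exists_linearIndependent' (κ p)
    (Matrix.of fun (b : Fin w) (i : ν) => red p ν (y (a (emb b))) i).col
  have : Finite κ'' := hli''.finite
  haveI : Fintype κ'' := Fintype.ofFinite κ''
  have hcard'' : Fintype.card κ'' = w := by
    rw [linearIndependent_iff_card_eq_finrank_span.1 hli'', Set.finrank, hspan'', hrank]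
  let e : κ'' ≃ Fin w := Fintype.equivFinOfCardEq hcard''
  have hli3 : LinearIndependent (κ p) (fun a' : Fin w =>
      (Matrix.of fun (b : Fin w) (i : ν) => red p ν (y (a (emb b))) i).col (a'' (e.symm a'))) :=
    hli''.comp e.symm e.symm.injective
  refine ⟨fun b => a (emb b), fun a' => a'' (e.symm a'), ?_⟩
  have hunit : IsUnit ((algebraMap R (κ p)).mapMatrix
      (Matrix.of fun a' b => y (a (emb b)) (a'' (e.symm a')))) := by
    refine Matrix.linearIndependent_rows_iff_isUnit.1 ?_
    convert hli3 using 1
    ext b a'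
    rfl
  rw [Matrix.isUnit_iff_isUnit_det, ← RingHom.map_det] at hunit
  intro hmem
  rw [← Ideal.algebraMap_residueField_eq_zero] at hmem
  rw [hmem] at hunit
  exact not_isUnit_zero hunit

theorem isOpen_le_rk {J : Type} (y : J → (ν → R)) (w : ℕ) :
    IsOpen {p : PrimeSpectrum R | w ≤ rk p y} := by
  have : {p : PrimeSpectrum R | w ≤ rk p y} = ⋃ (c : Fin w → J) (r : Fin w → ν),
      (PrimeSpectrum.basicOpen (Matrix.of fun a b => y (c b) (r a)).det : Set (PrimeSpectrum R)) := by
    ext p
    simp only [Set.mem_setOf_eq, Set.mem_iUnion, SetLike.mem_coe, PrimeSpectrum.mem_basicOpen]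
    constructor
    · exact exists_det_of_le_rk p y w
    · rintro ⟨c, r, h⟩
      exact le_rk_of_det p y w c r h
  rw [this]
  exact isOpen_iUnion fun c => isOpen_iUnion fun r => (PrimeSpectrum.basicOpen _).isOpen

end Groth.Agent.Lib.Helper39.BasicElt
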