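import Groth.Agent.Lib.Helper39.BasicElt.CancelMany

/-! Stably isomorphic constant-rank projectives have isomorphic powers. -/

universe u

namespace Groth.Agent.Lib.Helper39.BasicElt

variable {R : Type u} [CommRing R]

/-- `(ι → A × B) ≃ (ι → A) × (ι → B)`, linearly. -/
def piProdSplit (R : Type u) [CommRing R] (ι : Type) (A B : Type u) [AddCommGroup A] [Module R A]
    [AddCommGroup B] [Module R B] : (ι → A × B) ≃ₗ[R] ((ι → A) × (ι → B)) where
  toFun f := (fun i => (f i).1, fun i => (f i).2)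
  invFun g := fun i => (g.1 i, g.2 i)
  map_add' _ _ := rfl
  map_smul' _ _ := rfl
  left_inv _ := rfl
  right_inv _ := rfl

/-- `(Fin N → Fin m → R) ≃ (Fin (N * m) → R)`. -/
def piPiFin (R : Type u) [CommRing R] (N m : ℕ) : (Fin N → Fin m → R) ≃ₗ[R] (Fin (N * m) → R) :=
  (LinearEquiv.curry R R (Fin N) (Fin m)).symm ≪≫ₗ
    LinearEquiv.funCongrLeft R R finProdFinEquiv.symm

theorem powers_equiv [IsNoetherianRing R] (d n : ℕ) (hdim : ringKrullDim R = d)
    (P Q : Type u) [AddCommGroup P] [Module R P] [Module.Finite R P] [Module.Projective R P]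
    [AddCommGroup Q] [Module R Q] [Module.Finite R Q] [Module.Projective R Q]
    (hrk : ∀ p : PrimeSpectrum R, Module.rankAtStalk (R := R) P p = n)
    (hrk' : ∀ p : PrimeSpectrum R, Module.rankAtStalk (R := R) Q p = n)
    (m : ℕ) (e : (P × (Fin m → R)) ≃ₗ[R] (Q × (Fin m → R))) :
    ∃ N : ℕ, 1 ≤ N ∧ Nonempty ((Fin N → P) ≃ₗ[R] (Fin N → Q)) := by
  rcases Nat.eq_zero_or_pos n with hn | hn
  · subst hn
    have hP : Subsingleton P :=
      Module.rankAtStalk_eq_zero_iff_subsingleton.mp (funext fun p => by simpa using hrk p)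
    have hQ : Subsingleton Q :=
      Module.rankAtStalk_eq_zero_iff_subsingleton.mp (funext fun p => by simpa using hrk' p)
    exact ⟨1, le_refl _, ⟨LinearEquiv.ofSubsingleton _ _⟩⟩
  · refine ⟨d + 1, Nat.le_add_left _ _, ?_⟩
    set N := d + 1 with hN
    -- the stabilised isomorphism of powers
    have σ : ((Fin N → P) × (Fin (N * m) → R)) ≃ₗ[R] ((Fin N → Q) × (Fin (N * m) → R)) :=
      (LinearEquiv.prodCongr (LinearEquiv.refl R _) (piPiFin R N m).symm) ≪≫ₗ
      (piProdSplit R (Fin N) P (Fin m → R)).symm ≪≫ₗ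
      (LinearEquiv.piCongrRight fun _ => e) ≪≫ₗ
      (piProdSplit R (Fin N) Q (Fin m → R)) ≪≫ₗ
      (LinearEquiv.prodCongr (LinearEquiv.refl R _) (piPiFin R N m))
    haveI : Module.Projective R (Fin N → Q) :=
      Module.Projective.of_equiv (DFinsupp.linearEquivFunOnFintype (R := R) (ι := Fin N)
        (M := fun _ => Q))
    have hrkN : ∀ p : PrimeSpectrum R, N ≤ Module.rankAtStalk (Fin N → Q) p := by
      intro p
      rw [Module.rankAtStalk_pi, finsum_eq_sum_of_fintype]
      simp only [hrk' p, Finset.sum_const, Finset.card_univ, Fintype.card_fin, smul_eq_mul]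
      exact Nat.le_mul_of_pos_right _ hn
    exact cancel_many_of_dim (P := Fin N → Q) d N hdim (Nat.lt_succ_self d) hrkN (N * m) σ

end Groth.Agent.Lib.Helper39.BasicElt
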