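import Groth.Agent.Lib.Helper39.BasicElt.Step

namespace Groth.Agent.Lib.Helper39.BasicElt

universe u

set_option linter.unusedSectionVars false

open TensorProduct

variable {R : Type u} [CommRing R] {P : Type u} [AddCommGroup P] [Module R P]

/-- Standard basis vectors. -/
def ee {N : ℕ} (j : Fin N) : Fin N → R := Pi.single j 1

theorem sum_smul_ee {N : ℕ} (z : Fin N → R) : z = ∑ j, z j • (ee j : Fin N → R) := by
  funext i
  simp [ee, Finset.sum_apply, Pi.single_apply]

/-- The rank at a prime of the family of images of the basis vectors under a retraction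
is at least the rank of the module. -/
theorem rankAtStalk_le_rk [Module.Finite R P] [Module.Projective R P] {N : ℕ}
    (π : (Fin N → R) →ₗ[R] P) (ι : P →ₗ[R] (Fin N → R)) (hπι : π ∘ₗ ι = LinearMap.id)
    (p : PrimeSpectrum R) :
    Module.rankAtStalk P p ≤ rk p (fun j : Fin N => ι (π (ee j))) := by
  classical
  rw [Module.rankAtStalk_eq]
  let Ψ : κ p ⊗[R] P →ₗ[κ p] (Fin N → κ p) := ((red p (Fin N)) ∘ₗ ι).liftBaseChange (κ p)
  let Θ : (Fin N → κ p) →ₗ[κ p] κ p ⊗[R] P :=
    Fintype.linearCombination (κ p) (fun i : Fin N => (1 : κ p) ⊗ₜ[R] π (ee i))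
  have hΘΨ : ∀ t, Θ (Ψ t) = t := by
    intro t
    induction t using TensorProduct.induction_on with
    | zero => simp
    | add x y hx hy => rw [map_add, map_add, hx, hy]
    | tmul c x =>
      have h1 : Ψ (c ⊗ₜ[R] x) = c • red p (Fin N) (ι x) := rfl
      rw [h1, map_smul]
      have h2 : Θ (red p (Fin N) (ι x)) = (1 : κ p) ⊗ₜ[R] x := by
        simp only [Θ, Fintype.linearCombination_apply, red_apply]
        have hx : x = ∑ i, (ι x) i • π (ee i) := by
          conv_lhs => rw [← LinearMap.id_apply (R := R) x, ← hπι, LinearMap.comp_apply,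
            sum_smul_ee (ι x), map_sum]
          simp only [map_smul]
        conv_rhs => rw [hx, TensorProduct.tmul_sum]
        refine Finset.sum_congr rfl fun i _ => ?_
        rw [TensorProduct.tmul_smul, algebraMap_smul]
      rw [h2, TensorProduct.smul_tmul', smul_eq_mul, mul_one]
  have hinj : Function.Injective Ψ := Function.LeftInverse.injective hΘΨ
  rw [← LinearMap.finrank_range_of_inj hinj]
  refine Submodule.finrank_mono ?_
  rintro _ ⟨t, rfl⟩
  induction t using TensorProduct.induction_on with
  | zero => simp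
  | add x y hx hy => rw [map_add]; exact add_mem hx hy
  | tmul c x =>
    have h1 : Ψ (c ⊗ₜ[R] x) = c • red p (Fin N) (ι x) := rfl
    rw [h1]
    refine Submodule.smul_mem _ _ ?_
    have hx : ι x = ∑ i, (ι x) i • ι (π (ee i)) := by
      conv_lhs => rw [← LinearMap.id_apply (R := R) x, ← hπι, LinearMap.comp_apply,
        sum_smul_ee (ι x), map_sum, map_sum]
      simp only [map_smul]
    rw [hx, map_sum]
    refine Submodule.sum_mem _ fun i _ => ?_
    rw [red_smul]
    exact Submodule.smul_mem _ _ (Submodule.subset_span ⟨i, rfl⟩)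

/-- A vector of `P` whose coordinates vanish at no prime is unimodular. -/
theorem exists_functional {N : ℕ} (ι : P →ₗ[R] (Fin N → R)) (s : P)
    (h : ∀ p : PrimeSpectrum R, red p (Fin N) (ι s) ≠ 0) : ∃ φ : P →ₗ[R] R, φ s = 1 := by
  have htop : Ideal.span (Set.range (ι s)) = ⊤ := by
    by_contra hne
    obtain ⟨m, hm, hle⟩ := Ideal.exists_le_maximal _ hne
    apply h ⟨m, hm.isPrime⟩
    rw [red_eq_zero_iff]
    intro i
    exact hle (Ideal.subset_span ⟨i, rfl⟩)
  have h1 : (1 : R) ∈ Ideal.span (Set.range (ι s)) := by rw [htop]; trivial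
  obtain ⟨c, hc⟩ := (Ideal.mem_span_range_iff_exists_fun).1 h1
  refine ⟨∑ i, c i • (LinearMap.proj i ∘ₗ ι), ?_⟩
  simp only [LinearMap.sum_apply, LinearMap.smul_apply, LinearMap.comp_apply, LinearMap.proj_apply,
    smul_eq_mul]
  exact hc

/-- Serre: a finitely generated projective module whose rank exceeds the coheight of every prime
has a unimodular element. -/
theorem exists_unimodular [IsNoetherianRing R] [Module.Finite R P] [Module.Projective R P] (n : ℕ)
    (hrk : ∀ p : PrimeSpectrum R, n ≤ Module.rankAtStalk P p)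
    (hdim : ∀ p : PrimeSpectrum R, Order.coheight p + 1 ≤ (n : ℕ∞)) :
    ∃ (s : P) (φ : P →ₗ[R] R), φ s = 1 := by
  obtain ⟨N, π, hπ⟩ := Module.Finite.exists_fin' R P
  obtain ⟨ι, hπι⟩ := Module.projective_lifting_property π LinearMap.id hπ
  rcases Nat.eq_zero_or_pos N with rfl | hN
  · -- `P` is trivial, so there are no primes and the ring is trivial
    have hR : Subsingleton R := by
      by_contra hR
      rw [not_subsingleton_iff_nontrivial] at hR
      obtain ⟨p⟩ : Nonempty (PrimeSpectrum R) := inferInstance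
      have hsub : Subsingleton P := by
        refine ⟨fun x y => ?_⟩
        obtain ⟨x', rfl⟩ := hπ x
        obtain ⟨y', rfl⟩ := hπ y
        rw [Subsingleton.elim x' y']
      have h0 : Module.rankAtStalk P p = 0 := by
        rw [Module.rankAtStalk_eq_zero_of_subsingleton]; rfl
      have hn : n = 0 := by have := hrk p; omega
      have := hdim p
      rw [hn] at this
      simp at this
    exact ⟨0, 0, Subsingleton.elim _ _⟩
  obtain ⟨v, rfl⟩ : ∃ v, N = v + 1 := ⟨N - 1, by omega⟩
  have hHyp : Hyp (Set.univ : Set (PrimeSpectrum R)) (v + 1)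
      (fun j : Fin (v + 1) => ι (π (ee j))) := by
    intro p _
    right
    refine (hdim p).trans ?_
    exact_mod_cast (hrk p).trans (rankAtStalk_le_rk π ι hπι p)
  obtain ⟨b, hb⟩ := exists_basic (Set.univ : Set (PrimeSpectrum R)) (fun _ _ _ _ => trivial) v _ hHyp
  refine ⟨π (ee 0) + ∑ j, b j • π (ee (Fin.succ j)), ?_⟩
  refine exists_functional ι _ fun p => ?_
  have := hb p trivial
  simpa only [map_add, map_sum, map_smul] using this

/-- Bass: in a projective module of large rank, a unimodular pair `(a, s)` can be reduced. -/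
theorem exists_unimodular_add [IsNoetherianRing R] [Module.Finite R P] [Module.Projective R P]
    (n : ℕ) (hrk : ∀ p : PrimeSpectrum R, n ≤ Module.rankAtStalk P p)
    (hdim : ∀ p : PrimeSpectrum R, Order.coheight p + 1 ≤ (n : ℕ∞))
    (s : P) (a : R) (α : R) (ψ : P →ₗ[R] R) (hu : α * a + ψ s = 1) :
    ∃ (t : P) (φ : P →ₗ[R] R), φ (s + a • t) = 1 := by
  obtain ⟨N, π, hπ⟩ := Module.Finite.exists_fin' R P
  obtain ⟨ι, hπι⟩ := Module.projective_lifting_property π LinearMap.id hπ
  have hHyp : Hyp {p : PrimeSpectrum R | a ∉ p.asIdeal} (N + 1)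
      (Fin.cons (ι s) (fun j : Fin N => a • ι (π (ee j))) : Fin (N + 1) → (Fin N → R)) := by
    intro p hp
    right
    refine (hdim p).trans ?_
    have h1 := (hrk p).trans (rankAtStalk_le_rk π ι hπι p)
    have h2 : rk p (fun j : Fin N => ι (π (ee j))) ≤
        rk p (Fin.cons (ι s) (fun j : Fin N => a • ι (π (ee j))) : Fin (N + 1) → (Fin N → R)) := by
      refine rk_mono p _ _ fun j => ?_
      have hane : algebraMap R (κ p) a ≠ 0 := by
        rwa [Ne, Ideal.algebraMap_residueField_eq_zero]
      have : red p (Fin N) (ι (π (ee j))) =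
          (algebraMap R (κ p) a)⁻¹ • red p (Fin N) ((Fin.cons (ι s)
            (fun j : Fin N => a • ι (π (ee j))) : Fin (N + 1) → (Fin N → R)) (Fin.succ j)) := by
        rw [Fin.cons_succ, red_smul, smul_smul, inv_mul_cancel₀ hane, one_smul]
      rw [this]
      exact Submodule.smul_mem _ _ (Submodule.subset_span ⟨Fin.succ j, rfl⟩)
    exact_mod_cast h1.trans h2
  obtain ⟨b, hb⟩ := exists_basic {p : PrimeSpectrum R | a ∉ p.asIdeal}
    (fun p hp q hqp hq => hp (hqp hq)) N _ hHyp
  refine ⟨∑ j, b j • π (ee j), ?_⟩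
  refine exists_functional ι _ fun p => ?_
  by_cases hp : a ∈ p.asIdeal
  · have ha0 : algebraMap R (κ p) a = 0 := Ideal.algebraMap_residueField_eq_zero.2 hp
    rw [map_add, map_smul, map_add, red_smul, ha0, zero_smul, add_zero]
    intro h0
    rw [red_eq_zero_iff] at h0
    have hψ : ψ s ∈ p.asIdeal := by
      have hx : s = ∑ i, (ι s) i • π (ee i) := by
        conv_lhs => rw [← LinearMap.id_apply (R := R) s, ← hπι, LinearMap.comp_apply,
          sum_smul_ee (ι s), map_sum]
        simp only [map_smul]
      rw [hx, map_sum]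
      refine Ideal.sum_mem _ fun i _ => ?_
      rw [map_smul, smul_eq_mul]
      exact Ideal.mul_mem_right _ _ (h0 i)
    have h1 : (1 : R) ∈ p.asIdeal := by
      rw [← hu]
      exact Ideal.add_mem _ (Ideal.mul_mem_left _ _ hp) hψ
    exact p.isPrime.ne_top ((Ideal.eq_top_iff_one _).2 h1)
  · have := hb p hp
    simp only [Fin.cons_zero, Fin.cons_succ] at this
    have heq : ι (s + a • ∑ j, b j • π (ee j)) = ι s + ∑ j, b j • a • ι (π (ee j)) := by
      simp only [map_add, map_smul, map_sum, Finset.smul_sum]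
      congr 1
      refine Finset.sum_congr rfl fun j _ => ?_
      rw [smul_comm]
    rw [heq]
    exact this

end Groth.Agent.Lib.Helper39.BasicElt
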