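import Mathlib

namespace Groth.Agent.Lib.Helper39.BasicElt

universe u

set_option linter.unusedSectionVars false

variable {R : Type u} [CommRing R] {ν : Type} [Fintype ν]

/-- The residue field at a point of the prime spectrum. -/
abbrev κ (p : PrimeSpectrum R) : Type u := p.asIdeal.ResidueField

/-- Reduction of vectors modulo a prime, with values in the residue field. -/
noncomputable def red (p : PrimeSpectrum R) (ν : Type) : (ν → R) →ₗ[R] (ν → κ p) :=
  (Algebra.linearMap R (κ p)).compLeft ν

omit [Fintype ν] in
theorem red_apply (p : PrimeSpectrum R) (y : ν → R) (i : ν) :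
    red p ν y i = algebraMap R (κ p) (y i) := rfl

omit [Fintype ν] in
theorem red_eq_zero_iff (p : PrimeSpectrum R) (y : ν → R) :
    red p ν y = 0 ↔ ∀ i, y i ∈ p.asIdeal := by
  simp only [funext_iff, red_apply, Pi.zero_apply, Ideal.algebraMap_residueField_eq_zero]

omit [Fintype ν] in
theorem red_smul (p : PrimeSpectrum R) (r : R) (y : ν → R) :
    red p ν (r • y) = algebraMap R (κ p) r • red p ν y := by
  rw [map_smul, algebraMap_smul]

/-- The rank of a finite family of vectors at a prime. -/
noncomputable def rk (p : PrimeSpectrum R) {J : Type} (y : J → (ν → R)) : ℕ :=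
  Module.finrank (κ p) (Submodule.span (κ p) (Set.range fun j => red p ν (y j)))

theorem rk_le_card (p : PrimeSpectrum R) {J : Type} [Fintype J] (y : J → (ν → R)) :
    rk p y ≤ Fintype.card J :=
  finrank_range_le_card (R := κ p) (fun j => red p ν (y j))

theorem rk_mono (p : PrimeSpectrum R) {J J' : Type} (y : J → (ν → R)) (y' : J' → (ν → R))
    (h : ∀ j', red p ν (y' j') ∈ Submodule.span (κ p) (Set.range fun j => red p ν (y j))) :
    rk p y' ≤ rk p y := by
  refine Submodule.finrank_mono (Submodule.span_le.2 ?_)
  rintro _ ⟨j', rfl⟩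
  exact h j'

/-- The modified family: distribute the last vector over the others. -/
def modif {v : ℕ} (y : Fin (v + 1) → (ν → R)) (a : Fin v → R) : Fin v → (ν → R) :=
  fun j => y (Fin.castSucc j) + a j • y (Fin.last v)

theorem span_le_modif (p : PrimeSpectrum R) {v : ℕ} (y : Fin (v + 1) → (ν → R)) (a : Fin v → R) :
    Submodule.span (κ p) (Set.range fun j => red p ν (y j)) ≤
      Submodule.span (κ p) (Set.range fun j => red p ν (modif y a j)) ⊔
        Submodule.span (κ p) {red p ν (y (Fin.last v))} := by
  refine Submodule.span_le.2 ?_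
  rintro _ ⟨j, rfl⟩
  refine Fin.lastCases ?_ (fun j => ?_) j
  · exact Submodule.mem_sup_right (Submodule.mem_span_singleton_self _)
  · have : red p ν (y (Fin.castSucc j)) = red p ν (modif y a j) -
        algebraMap R (κ p) (a j) • red p ν (y (Fin.last v)) := by
      simp only [modif, map_add, red_smul]
      abel
    show red p ν (y (Fin.castSucc j)) ∈ _
    rw [this]
    exact sub_mem (Submodule.mem_sup_left (Submodule.subset_span ⟨j, rfl⟩))
      (Submodule.smul_mem _ _ (Submodule.mem_sup_right (Submodule.mem_span_singleton_self _)))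

theorem rk_le_modif_add_one (p : PrimeSpectrum R) {v : ℕ} (y : Fin (v + 1) → (ν → R))
    (a : Fin v → R) : rk p y ≤ rk p (modif y a) + 1 := by
  refine (Submodule.finrank_mono (span_le_modif p y a)).trans ?_
  refine (Submodule.finrank_add_le_finrank_add_finrank _ _).trans ?_
  refine Nat.add_le_add_left ?_ _
  have := finrank_span_le_card (R := κ p) ({red p ν (y (Fin.last v))} : Set (ν → κ p))
  simpa using this

theorem rk_le_modif_of_mem (p : PrimeSpectrum R) {v : ℕ} (y : Fin (v + 1) → (ν → R))
    (a : Fin v → R)
    (h : red p ν (y (Fin.last v)) ∈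
      Submodule.span (κ p) (Set.range fun j => red p ν (modif y a j))) :
    rk p y ≤ rk p (modif y a) := by
  refine Submodule.finrank_mono ((span_le_modif p y a).trans ?_)
  refine sup_le le_rfl ?_
  rw [Submodule.span_singleton_le_iff_mem]
  exact h

/-- Linear algebra lemma: in a dependent situation one can absorb `Z` with `0/1` coefficients. -/
theorem exists_zero_one {K V : Type*} [Field K] [AddCommGroup V] [Module K V] {v : ℕ}
    (Y : Fin v → V) (Z : V) (ρ : K) (hρ : ρ ≠ 0)
    (hdep : (¬ LinearIndependent K Y) ∨ Z ∈ Submodule.span K (Set.range Y)) :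
    ∃ c : Fin v → Bool,
      Z ∈ Submodule.span K (Set.range fun j => Y j + (if c j then ρ else 0) • Z) := by
  classical
  by_cases hZ : Z ∈ Submodule.span K (Set.range Y)
  · refine ⟨fun _ => false, ?_⟩
    simpa using hZ
  · have hli : ¬ LinearIndependent K Y := hdep.resolve_right hZ
    obtain ⟨l, hsum, j0, hj0⟩ := Fintype.not_linearIndependent_iff.1 hli
    refine ⟨fun j => decide (j = j0), ?_⟩
    have key : ∑ j, l j • (Y j + (if decide (j = j0) then ρ else 0) • Z) = (l j0 * ρ) • Z := by
      simp only [smul_add, Finset.sum_add_distrib, hsum, zero_add, decide_eq_true_eq]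
      rw [Finset.sum_eq_single j0]
      · simp [mul_smul]
      · intro b _ hb
        simp [hb]
      · simp
    have hne : l j0 * ρ ≠ 0 := mul_ne_zero hj0 hρ
    have hZeq : Z = (l j0 * ρ)⁻¹ • ∑ j, l j • (Y j + (if decide (j = j0) then ρ else 0) • Z) := by
      rw [key, smul_smul, inv_mul_cancel₀ hne, one_smul]
    have hmem : (l j0 * ρ)⁻¹ • ∑ j, l j • (Y j + (if decide (j = j0) then ρ else 0) • Z) ∈
        Submodule.span K (Set.range fun j => Y j + (if decide (j = j0) then ρ else 0) • Z) := by
      refine Submodule.smul_mem _ _ (Submodule.sum_mem _ fun j _ => Submodule.smul_mem _ _ ?_)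
      exact Submodule.subset_span ⟨j, rfl⟩
    rwa [← hZeq] at hmem

/-- If the rank of a family of `v + 1` vectors is at most `v`, the family is dependent. -/
theorem dep_of_rk_lt (p : PrimeSpectrum R) {v : ℕ} (y : Fin (v + 1) → (ν → R))
    (h : rk p y < v + 1) : ¬ LinearIndependent (κ p) (fun j => red p ν (y j)) := by
  intro hli
  have := linearIndependent_iff_card_eq_finrank_span.1 hli
  rw [Fintype.card_fin] at this
  unfold rk at h
  rw [Set.finrank] at this
  omega

end Groth.Agent.Lib.Helper39.BasicElt
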