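import Groth.Agent.Lib.Helper39.BasicElt.Cancel

namespace Groth.Agent.Lib.Helper39.BasicElt

universe u

set_option linter.unusedSectionVars false

variable {R : Type u} [CommRing R] {P : Type u} [AddCommGroup P] [Module R P]

/-- Splitting off a unimodular element. -/
noncomputable def splitEquiv (s : P) (φ : P →ₗ[R] R) (h : φ s = 1) :
    P ≃ₗ[R] (LinearMap.ker φ × R) :=
  LinearEquiv.ofLinear
    ((LinearMap.codRestrict (LinearMap.ker φ) (LinearMap.id - φ.smulRight s) (fun x => by
      simp [LinearMap.mem_ker, h])).prod φ)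
    ((LinearMap.ker φ).subtype.coprod (LinearMap.toSpanSingleton R P s))
    (LinearMap.ext fun x => by
      obtain ⟨⟨y, hy⟩, r⟩ := x
      rw [LinearMap.mem_ker] at hy
      ext <;> simp [hy, h])
    (LinearMap.ext fun x => by simp)

theorem coheight_le_of_ringKrullDim {d : ℕ} (hdim : ringKrullDim R = d) (p : PrimeSpectrum R) :
    Order.coheight p ≤ (d : ℕ∞) := by
  have h1 := Order.coheight_le_krullDim p
  have h1' : (Order.coheight p : WithBot ℕ∞) ≤ (d : WithBot ℕ∞) := by
    rw [← hdim]; exact h1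
  exact_mod_cast h1'

theorem split_aux [IsNoetherianRing R] (d : ℕ)
    (hdim : ∀ p : PrimeSpectrum R, Order.coheight p ≤ (d : ℕ∞)) :
    ∀ (k : ℕ) (n : ℕ) (P : Type u) [AddCommGroup P] [Module R P] [Module.Finite R P]
      [Module.Projective R P], (∀ p : PrimeSpectrum R, Module.rankAtStalk P p = n) → d + k ≤ n →
      ∃ (P₀ : Type u) (_ : AddCommGroup P₀) (_ : Module R P₀),
        Nonempty (P ≃ₗ[R] (P₀ × (Fin k → R)))
  | 0, n, P, _, _, _, _, _, _ => ⟨P, inferInstance, inferInstance, ⟨(LinearEquiv.prodUnique).symm⟩⟩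
  | k + 1, n, P, _, _, _, _, hrk, hn => by
    obtain ⟨s, φ, hφ⟩ := exists_unimodular (R := R) (P := P) n (fun p => (hrk p).ge) (fun p => by
      have h1 := hdim p
      have h2 : (d : ℕ∞) + 1 ≤ (n : ℕ∞) := by exact_mod_cast (by omega : d + 1 ≤ n)
      exact (add_le_add_left h1 1).trans h2)
    let e := splitEquiv s φ hφ
    have : Module.Finite R (LinearMap.ker φ × R) := Module.Finite.equiv e
    have : Module.Finite R (LinearMap.ker φ) :=
      Module.Finite.of_surjective (LinearMap.fst R (LinearMap.ker φ) R) LinearMap.fst_surjective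
    have : Module.Projective R (LinearMap.ker φ) :=
      Module.Projective.of_split (LinearMap.ker φ).subtype
        (LinearMap.fst R (LinearMap.ker φ) R ∘ₗ e.toLinearMap) (by
          refine LinearMap.ext fun x => ?_
          obtain ⟨y, hy⟩ := x
          rw [LinearMap.mem_ker] at hy
          ext
          simp [e, splitEquiv, hy])
    have hrkK : ∀ p : PrimeSpectrum R, Module.rankAtStalk (LinearMap.ker φ) p = n - 1 := by
      intro p
      have : Nontrivial R := ⟨⟨0, 1, fun h01 =>
        p.isPrime.ne_top ((Ideal.eq_top_iff_one _).2 (h01 ▸ zero_mem _))⟩⟩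
      have h1 := Module.rankAtStalk_eq_of_equiv (R := R) e
      have h2 := Module.rankAtStalk_prod (R := R) (LinearMap.ker φ) R
      have h3 := congrFun h1 p
      rw [h2, Pi.add_apply, hrk p, Module.rankAtStalk_self, Pi.one_apply] at h3
      omega
    obtain ⟨P₀, i1, i2, ⟨e'⟩⟩ := split_aux d hdim k (n - 1) (LinearMap.ker φ) hrkK (by omega)
    refine ⟨P₀, i1, i2, ⟨?_⟩⟩
    exact e.trans ((LinearEquiv.prodCongr e' (LinearEquiv.refl R R)).trans
      ((LinearEquiv.prodAssoc R P₀ (Fin k → R) R).trans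
        (LinearEquiv.prodCongr (LinearEquiv.refl R P₀)
          ((LinearEquiv.prodComm R (Fin k → R) R).trans
            (Fin.consLinearEquiv R (fun _ : Fin (k + 1) => R))))))

/-- From a product decomposition to complementary submodules. -/
theorem exists_isCompl_of_equiv {P₀ F : Type*} [AddCommGroup P₀] [Module R P₀] [AddCommGroup F]
    [Module R F] (e : P ≃ₗ[R] (P₀ × F)) :
    ∃ (A B : Submodule R P), IsCompl A B ∧ Nonempty (B ≃ₗ[R] F) := by
  refine ⟨(LinearMap.range (LinearMap.inl R P₀ F)).map e.symm.toLinearMap,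
    (LinearMap.range (LinearMap.inr R P₀ F)).map e.symm.toLinearMap, ?_, ?_⟩
  · exact ((Submodule.orderIsoMapComap e.symm).isCompl_iff).1 LinearMap.isCompl_range_inl_inr
  · exact ⟨((e.symm.submoduleMap (LinearMap.range (LinearMap.inr R P₀ F))).symm).trans
      (LinearEquiv.ofInjective (LinearMap.inr R P₀ F) LinearMap.inr_injective).symm⟩

theorem serre_splitting [IsNoetherianRing R] (d n : ℕ) (hdim : ringKrullDim R = d)
    [Module.Finite R P] [Module.Projective R P]
    (hrk : ∀ p : PrimeSpectrum R, Module.rankAtStalk (R := R) P p = n) (hnd : d < n) :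
    ∃ (P₀ Q : Submodule R P), IsCompl P₀ Q ∧ Nonempty (Q ≃ₗ[R] (Fin (n - d) → R)) := by
  obtain ⟨P₀, _, _, ⟨e⟩⟩ := split_aux d (coheight_le_of_ringKrullDim hdim) (n - d) n P hrk (by omega)
  exact exists_isCompl_of_equiv e

end Groth.Agent.Lib.Helper39.BasicElt
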