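import Groth.Agent.Lib.Helper39.BasicElt.Multi

namespace Groth.Agent.Lib.Helper39.BasicElt

universe u

set_option linter.unusedSectionVars false

variable {R : Type u} [CommRing R] {ν : Type} [Fintype ν]

/-- The basic-ness hypothesis on a family of `u` vectors, on a set `X` of primes. -/
def Hyp (X : Set (PrimeSpectrum R)) (u : ℕ) (y : Fin u → (ν → R)) : Prop :=
  ∀ p ∈ X, u ≤ rk p y ∨ Order.coheight p + 1 ≤ (rk p y : ℕ∞)

/-- Minimal points of a closed subset of the spectrum of a Noetherian ring form a finite set. -/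
theorem finite_minimal_of_isClosed [IsNoetherianRing R] (Z : Set (PrimeSpectrum R))
    (hZ : IsClosed Z) : {p : PrimeSpectrum R | p ∈ Z ∧ ∀ q ∈ Z, q ≤ p → q = p}.Finite := by
  have hZeq : PrimeSpectrum.zeroLocus (PrimeSpectrum.vanishingIdeal Z : Set R) = Z := by
    rw [PrimeSpectrum.zeroLocus_vanishingIdeal_eq_closure, hZ.closure_eq]
  have hfin := Ideal.finite_minimalPrimes_of_isNoetherianRing R (PrimeSpectrum.vanishingIdeal Z)
  refine (hfin.preimage (f := PrimeSpectrum.asIdeal) ?_).subset ?_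
  · intro p _ q _ hpq
    exact PrimeSpectrum.ext hpq
  · rintro p ⟨hpZ, hmin⟩
    show p.asIdeal ∈ (PrimeSpectrum.vanishingIdeal Z).minimalPrimes
    refine ⟨⟨p.isPrime, ?_⟩, ?_⟩
    · rw [← hZeq] at hpZ
      exact (PrimeSpectrum.mem_zeroLocus _ _).1 hpZ
    · rintro q' ⟨hq'prime, hq'le⟩ hq'p
      have hqZ : (⟨q', hq'prime⟩ : PrimeSpectrum R) ∈ Z := by
        rw [← hZeq]
        exact (PrimeSpectrum.mem_zeroLocus _ _).2 hq'le
      have := hmin ⟨q', hq'prime⟩ hqZ hq'p
      rw [← this]

theorem step [IsNoetherianRing R] (X : Set (PrimeSpectrum R))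
    (hX : ∀ p ∈ X, ∀ q : PrimeSpectrum R, q ≤ p → q ∈ X) {v : ℕ}
    (y : Fin (v + 1) → (ν → R)) (hy : Hyp X (v + 1) y) :
    ∃ a : Fin v → R, Hyp X v (modif y a) := by
  classical
  have hbadfin : {p : PrimeSpectrum R | p ∈ X ∧ rk p y ≤ v ∧
      (rk p y : ℕ∞) = Order.coheight p + 1}.Finite := by
    have hU : (⋃ w ∈ Finset.range (v + 1), {p : PrimeSpectrum R |
        p ∈ {q : PrimeSpectrum R | w + 1 ≤ rk q y}ᶜ ∧
          ∀ q ∈ {q : PrimeSpectrum R | w + 1 ≤ rk q y}ᶜ, q ≤ p → q = p}).Finite := by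
      refine Set.Finite.biUnion (Finset.finite_toSet _) fun w _ => ?_
      exact finite_minimal_of_isClosed _ (isOpen_le_rk y (w + 1)).isClosed_compl
    refine hU.subset ?_
    rintro p ⟨hpX, hle, heq⟩
    simp only [Set.mem_iUnion, Finset.mem_range, Set.mem_setOf_eq, Set.mem_compl_iff, not_le,
      exists_prop]
    refine ⟨rk p y, by omega, by omega, ?_⟩
    intro q hq hqp
    by_contra hne
    have hlt : q < p := lt_of_le_of_ne hqp hne
    have hcoh := Order.coheight_add_one_le hlt
    have hqX := hX p hpX q hqp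
    rcases hy q hqX with h1 | h2
    · omega
    · have hfin : Order.coheight p ≠ ⊤ := by
        intro htop
        rw [htop] at heq
        simp at heq
      lift Order.coheight p to ℕ using hfin with m hm
      have h3 : ((m : ℕ∞) + 1) + 1 ≤ (rk q y : ℕ∞) := (add_le_add_left hcoh 1).trans h2
      have h4 : (rk q y : ℕ∞) < (rk p y : ℕ∞) + 1 := by
        have : rk q y < rk p y + 1 := hq
        exact_mod_cast this
      rw [heq] at h4
      have := lt_of_le_of_lt h3 h4
      exact lt_irrefl _ this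
  obtain ⟨a, ha⟩ := multi_prime y hbadfin.toFinset (by
    intro p hp
    have := (Set.Finite.mem_toFinset _).1 hp
    have h2 := this.2.1
    omega)
  refine ⟨a, fun p hpX => ?_⟩
  have hk := rk_le_modif_add_one p y a
  by_cases hbad : rk p y ≤ v ∧ (rk p y : ℕ∞) = Order.coheight p + 1
  · right
    have hmem : p ∈ hbadfin.toFinset := (Set.Finite.mem_toFinset _).2 ⟨hpX, hbad.1, hbad.2⟩
    have hle := rk_le_modif_of_mem p y a (ha p hmem)
    rw [← hbad.2]
    exact_mod_cast hle
  · rcases hy p hpX with h1 | h2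
    · left; omega
    · by_cases hv : v + 1 ≤ rk p y
      · left; omega
      · right
        have hne : (rk p y : ℕ∞) ≠ Order.coheight p + 1 := fun h => hbad ⟨by omega, h⟩
        have hfin : Order.coheight p ≠ ⊤ := by
          intro htop
          rw [htop] at h2
          simp at h2
        lift Order.coheight p to ℕ using hfin with m hm
        have h2' : m + 1 ≤ rk p y := by exact_mod_cast h2
        have hne' : rk p y ≠ m + 1 := by
          intro h
          apply hne
          exact_mod_cast h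
        have : m + 1 ≤ rk p (modif y a) := by omega
        exact_mod_cast this

theorem red_ne_zero_of_hyp_one (X : Set (PrimeSpectrum R)) (y : Fin 1 → (ν → R))
    (hy : Hyp X 1 y) (p : PrimeSpectrum R) (hp : p ∈ X) : red p ν (y 0) ≠ 0 := by
  intro h0
  have hrk : rk p y = 0 := by
    unfold rk
    have : Submodule.span (κ p) (Set.range fun j => red p ν (y j)) = ⊥ := by
      rw [Submodule.span_eq_bot]
      rintro _ ⟨j, rfl⟩
      have : j = 0 := Subsingleton.elim _ _
      rw [this]
      exact h0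
    rw [this]
    exact finrank_bot _ _
  rcases hy p hp with h1 | h2
  · omega
  · rw [hrk] at h2
    simp at h2

theorem exists_basic [IsNoetherianRing R] (X : Set (PrimeSpectrum R))
    (hX : ∀ p ∈ X, ∀ q : PrimeSpectrum R, q ≤ p → q ∈ X) :
    ∀ (v : ℕ) (y : Fin (v + 1) → (ν → R)), Hyp X (v + 1) y →
      ∃ b : Fin v → R, ∀ p ∈ X, red p ν (y 0 + ∑ j, b j • y (Fin.succ j)) ≠ 0
  | 0, y, hy => ⟨fun _ => 0, fun p hp => by
      simpa using red_ne_zero_of_hyp_one X y hy p hp⟩
  | v + 1, y, hy => by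
    obtain ⟨a, ha⟩ := step X hX y hy
    obtain ⟨b', hb'⟩ := exists_basic X hX v (modif y a) ha
    refine ⟨Fin.snoc b' (a 0 + ∑ j, b' j * a (Fin.succ j)), fun p hp => ?_⟩
    have key : y 0 + ∑ j, (Fin.snoc b' (a 0 + ∑ j, b' j * a (Fin.succ j)) : Fin (v + 1) → R) j •
        y (Fin.succ j) = modif y a 0 + ∑ j, b' j • modif y a (Fin.succ j) := by
      rw [Fin.sum_univ_castSucc]
      simp only [Fin.snoc_castSucc, Fin.snoc_last, modif, Fin.castSucc_zero, Fin.succ_last,
        Fin.succ_castSucc, smul_add, Finset.sum_add_distrib, add_smul, Finset.sum_smul, mul_smul]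
      abel
    rw [key]
    exact hb' p hp

end Groth.Agent.Lib.Helper39.BasicElt
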